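import Cfsg.Agent.Lib.J4Type.TwentyThree.Main
import Cfsg.Agent.Lib.J4Type.BigPrimes.Main
import Cfsg.Agent.Lib.J4Type.BigPrimes.FromType

/-!
The hypotheses of the construction of `PGL(2,23)` from the Janko-four type.
-/

set_option autoImplicit false
set_option linter.style.haveILetI false

namespace CfsgLib.J4Type.TwentyThree

open Cfsg Subgroup CfsgLib.J4Type

variable {G : Type*} [Group G] [Finite G] [IsSimpleGroup G]

theorem exists_input {z : G} {P : Subgroup G} {F : Frame z P} (D : VData F) (hf : Fused D) :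
    Nonempty (Input (normalizer (D.V : Set G)) D.V) := by
  obtain ⟨φ, hsurj, hker, -⟩ := Frame.exists_norm_hom D hf
  obtain ⟨K, hK, hi, hs, -⟩ := Frame.exists_complement D hf
  refine ⟨⟨rfl, D.elem.2, D.card, Frame.card_norm D hf, D.unique, D.elem, φ, hker, K, hK, hi, ?_⟩⟩
  intro σ
  obtain ⟨n, rfl⟩ := hsurj σ
  have hn : (n : G) ∈ K ⊔ D.V := hs.symm ▸ n.2
  obtain ⟨k, hk, v, hv, e⟩ := mem_sup_of_normalizer hK hn
  refine ⟨⟨k, hK hk⟩, hk, ?_⟩
  have hv' : (⟨v, le_normalizer hv⟩ : ↥(normalizer (D.V : Set G))) ∈ φ.ker := by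
    rw [hker]; exact hv
  have e' : n = ⟨k, hK hk⟩ * ⟨v, le_normalizer hv⟩ := Subtype.ext e.symm
  rw [e', map_mul, MonoidHom.mem_ker.1 hv', mul_one]
where
  mem_sup_of_normalizer {K V : Subgroup G} (hK : K ≤ normalizer (V : Set G)) {g : G}
      (hg : g ∈ K ⊔ V) : ∃ k ∈ K, ∃ v ∈ V, k * v = g := by
    rw [← SetLike.mem_coe, coe_mul_of_left_le_normalizer_right K V hK] at hg
    obtain ⟨k, hk, v, hv, rfl⟩ := hg
    exact ⟨k, hk, v, hv, rfl⟩

/-- The subgroup of order `23` is self-centralising with normaliser of order `506`. -/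
theorem twentyThree (Fa : BigPrimes.Facts G) (hG : Nat.card G = 86775571046077562880) {b : G}
    (hb : orderOf b = 23) :
    centralizer ({b} : Set G) = zpowers b ∧ Nat.card (normalizer (zpowers b : Set G)) = 506 := by
  haveI : Fact (Nat.Prime 23) := ⟨by norm_num⟩
  have hfac : (Nat.card G).factorization 23 = 1 := by
    rw [Nat.factorization_def _ (by norm_num : Nat.Prime 23), hG,
      show (86775571046077562880 : ℕ) = 23 ^ 1 * 3772850915046850560 by norm_num,
      padicValNat.mul (by norm_num) (by norm_num), padicValNat.prime_pow,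
      padicValNat.eq_zero_of_not_dvd (by norm_num)]
  let U : Sylow 23 G := Sylow.ofCard (zpowers b) (by rw [Nat.card_zpowers, hb, hfac, pow_one])
  obtain ⟨h1, h2⟩ := BigPrimes.main Fa (p := 23) (e := 22) (by simp) U
  refine ⟨?_, h2⟩
  have h3 : centralizer ((zpowers b : Subgroup G) : Set G) = zpowers b := h1
  conv_rhs => rw [← h3]
  rw [zpowers_eq_closure, centralizer_closure]

theorem exists_pgl (hG : ¬ IsMulCommutative G) (hJ : IsOfJankoFourType G)
    (hcard : Nat.card G = 86775571046077562880)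
    (hL5 : ∃ B : Subgroup G, Nonempty (↥B ≃* Matrix.SpecialLinearGroup (Fin 5) (ZMod 2))) :
    ∃ H : Subgroup G, Nonempty (H ≃* (GL (Fin 2) (ZMod 23) ⧸ center (GL (Fin 2) (ZMod 23)))) := by
  have Fa := BigPrimes.facts_of hG hJ hcard hL5
  obtain ⟨z, P, hzP⟩ := hJ
  obtain ⟨F⟩ := frame_exists hzP
  obtain ⟨D⟩ := vData_exists F
  obtain ⟨I⟩ := exists_input D (fused_exists hG D)
  exact I.exists_pgl hcard fun b hb => twentyThree Fa hcard hb

end CfsgLib.J4Type.TwentyThree
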