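import Cfsg.Agent.Lib.Golay.PSL23
import Cfsg.Agent.Lib.KnownA.MathieuOut

/-!
Subgroups of `M24` containing `23:11`.
-/

set_option autoImplicit false
set_option linter.style.haveILetI false
set_option maxRecDepth 100000

namespace CfsgLib.J4Type.TwentyThree

open Cfsg CfsgLib.Golay CfsgLib.Mathieu

/-- The translation as an element of `M24`. -/
def shiftM : M24 := ⟨shiftP, shiftP_mem⟩

/-- Multiplication by two as an element of `M24`. -/
def twoM : M24 := ⟨Equiv.optionCongr (Units.mulLeft two23), twoP_mem⟩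

theorem twoM_shiftM : twoM * shiftM * twoM⁻¹ = shiftM ^ 2 := by
  rw [mul_inv_eq_iff_eq_mul]
  refine Subtype.ext ?_
  show (Equiv.optionCongr (Units.mulLeft two23) : Equiv.Perm GolayPt) * shiftP = _
  rw [mulLeft_shift]
  rfl

theorem shiftM_order : orderOf shiftM = 23 := by
  rw [← Subgroup.orderOf_coe]
  exact (Subgroup.orderOf_coe _).trans ((Subgroup.orderOf_coe shiftS).trans shiftS_order)

theorem twoM_pow : twoM ^ 11 = 1 := by
  refine Subtype.ext (Equiv.ext fun p => ?_)
  show ((Equiv.optionCongr (Units.mulLeft two23) : Equiv.Perm GolayPt) ^ 11) p = p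
  rw [mulLeft_pow]
  revert p; decide +kernel

theorem twoM_ne : twoM ≠ 1 := by
  intro h
  have := Equiv.congr_fun (congrArg Subtype.val h) (some 1)
  simp [twoM, two23] at this
  exact absurd this (by decide)

/-- No element of `M24` inverts the translation. -/
theorem no_invert (σ : M24) (h : σ * shiftM * σ⁻¹ = shiftM⁻¹) : False := by
  have hs : ∀ p : GolayPt, shiftP p = p → p = none := by decide +kernel
  have hfix : (σ : Equiv.Perm GolayPt) none = none := by
    apply hs
    have h1 : shiftM * (σ * shiftM) = σ := by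
      rw [mul_inv_eq_iff_eq_mul.1 h, mul_inv_cancel_left]
    exact Equiv.congr_fun (congrArg Subtype.val h1) none
  let s : S23 := ⟨σ, hfix⟩
  have hs' : s * shiftS * s⁻¹ = shiftS ^ 22 := by
    have h22 : shiftM ^ 22 = shiftM⁻¹ := by
      refine (inv_eq_of_mul_eq_one_right ?_).symm
      rw [← pow_succ']
      exact orderOf_dvd_iff_pow_eq_one.1 (by rw [shiftM_order])
    refine Subtype.ext ?_
    show σ * shiftM * σ⁻¹ = shiftM ^ 22
    rw [h22, h]
  have hn : s ∈ Subgroup.normalizer (Subgroup.zpowers shiftS : Set S23) :=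
    mem_normalizer_of_semiPow (k := 22) (mul_inv_eq_iff_eq_mul.1 hs')
  have hp : s ^ 253 = 1 := by
    have h1 := orderOf_dvd_natCard (⟨s, hn⟩ : Subgroup.normalizer (Subgroup.zpowers shiftS : Set S23))
    rw [Subgroup.orderOf_mk, card_normalizer_shiftS] at h1
    exact orderOf_dvd_iff_pow_eq_one.1 h1
  have hit : ∀ n : ℕ, s ^ n * shiftS * (s ^ n)⁻¹ = shiftS ^ (22 ^ n) := by
    intro n
    induction n with
    | zero => simp
    | succ n ih =>
      calc s ^ (n + 1) * shiftS * (s ^ (n + 1))⁻¹ = s * (s ^ n * shiftS * (s ^ n)⁻¹) * s⁻¹ := by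
            rw [pow_succ']; group
        _ = (s * shiftS * s⁻¹) ^ (22 ^ n) := by rw [ih, conj_pow]
        _ = shiftS ^ (22 ^ (n + 1)) := by rw [hs', ← pow_mul, pow_succ']
  have h5 : shiftS ^ 1 = shiftS ^ (22 ^ 253) := by
    rw [← hit 253, hp, one_mul, inv_one, mul_one, pow_one]
  rw [pow_eq_pow_iff_modEq, shiftS_order] at h5
  revert h5
  decide +kernel

theorem inner_of_out {X : Type*} [Group X] [Finite X] (h : Nat.card (Cfsg.Out X) = 1)
    (φ : MulAut X) : ∃ g : X, φ = MulAut.conj g := by
  have := (Nat.card_eq_one_iff_unique.1 h).1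
  have h1 : (QuotientGroup.mk φ : Cfsg.Out X) = 1 := Subsingleton.elim _ _
  obtain ⟨g, hg⟩ := (QuotientGroup.eq_one_iff φ).1 h1
  exact ⟨g, hg.symm⟩

theorem inner_of_equiv {X Y : Type*} [Group X] [Group Y] (e : X ≃* Y)
    (h : ∀ φ : MulAut Y, ∃ g : Y, φ = MulAut.conj g) (φ : MulAut X) :
    ∃ g : X, φ = MulAut.conj g := by
  obtain ⟨g, hg⟩ := h ((e.symm.trans φ).trans e)
  refine ⟨e.symm g, MulEquiv.ext fun x => e.injective ?_⟩
  have h1 := DFunLike.congr_fun hg (e x)
  simpa using h1

theorem twoM_fix : (twoM : Equiv.Perm GolayPt) none = none := rfl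

/-- A subgroup of `M24` containing `23:11` has order `253` or `6072`, or it is `M23` or `M24` and so
has only inner automorphisms. -/
theorem overgroup (T : Subgroup M24) (h1 : shiftM ∈ T) (h2 : twoM ∈ T) :
    Nat.card T = 253 ∨ Nat.card T = 6072 ∨ ∀ φ : MulAut T, ∃ g : T, φ = MulAut.conj g := by
  classical
  have hle : borel23 ≤ T.map M24.subtype := by
    rw [borel23, Subgroup.closure_le]
    rintro g (rfl | hg)
    · exact ⟨shiftM, h1, rfl⟩
    · obtain ⟨k, rfl⟩ := sqMuls_eq hg
      exact ⟨twoM ^ k, T.pow_mem h2 k, by simp [twoM]⟩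
  have hB : B23 ≤ T.subgroupOf S23 := by
    intro x hx
    obtain ⟨t, ht, e⟩ := hle hx
    rw [Subgroup.mem_subgroupOf]
    have : t = (x : M24) := Subtype.ext e
    exact this ▸ ht
  have e : T.subgroupOf S23 ≃ MulAction.stabilizer T (none : GolayPt) :=
    { toFun := fun x => ⟨⟨x.1.1, x.2⟩, x.1.2⟩
      invFun := fun x => ⟨⟨x.1.1, x.2⟩, x.1.2⟩
      left_inv := fun _ => rfl
      right_inv := fun _ => rfl }
  have hcard := Nat.card_congr (MulAction.orbitProdStabilizerEquivGroup T (none : GolayPt))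
  rw [Nat.card_prod, Nat.card_coe_set_eq, ← Nat.card_congr e] at hcard
  have horb : (MulAction.orbit T (none : GolayPt)).ncard = 1 ∧ T ≤ S23 ∨
      (MulAction.orbit T (none : GolayPt)).ncard = 24 := by
    by_cases hT : ∀ g ∈ T, (g : Equiv.Perm GolayPt) none = none
    · refine Or.inl ⟨?_, fun g hg => hT g hg⟩
      rw [Set.ncard_eq_one]
      refine ⟨none, Set.eq_singleton_iff_unique_mem.2 ⟨MulAction.mem_orbit_self _, ?_⟩⟩
      rintro _ ⟨g, rfl⟩
      exact hT g.1 g.2
    · right
      push Not at hT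
      obtain ⟨g, hg, hne⟩ := hT
      obtain ⟨a, ha⟩ := Option.ne_none_iff_exists'.1 hne
      have huniv : MulAction.orbit T (none : GolayPt) = Set.univ := by
        refine Set.eq_univ_of_forall fun p => ?_
        rcases p with _ | t
        · exact MulAction.mem_orbit_self _
        · refine ⟨⟨shiftM ^ (t - a).val * g, T.mul_mem (T.pow_mem h1 _) hg⟩, ?_⟩
          show ((shiftM ^ (t - a).val * g : M24) : Equiv.Perm GolayPt) none = some t
          rw [Subgroup.coe_mul, Subgroup.coe_pow, Equiv.Perm.mul_apply, ha]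
          show (shiftP ^ (t - a).val) (some a) = _
          rw [shiftP_pow, ZMod.natCast_zmod_val, add_sub_cancel]
      rw [huniv, Set.ncard_univ]
      simp
  rcases B23_overgroup hB with hs | hs
  · rw [hs] at hcard
    rcases horb with ⟨ho, -⟩ | ho
    · left; rw [ho] at hcard; omega
    · right; left; rw [ho] at hcard; omega
  · right; right
    rcases horb with ⟨-, hT⟩ | ho
    · have hTeq : T = S23 := le_antisymm hT fun g hg => by
        have h : (⟨g, hg⟩ : S23) ∈ T.subgroupOf S23 := by rw [hs]; exact Subgroup.mem_top _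
        exact h
      obtain ⟨e1⟩ := stab1_equiv (none : GolayPt)
      exact inner_of_equiv (((MulEquiv.subgroupCongr hTeq).trans e1).trans
        (MulEquiv.subgroupCongr sporM23_eq.symm))
        (inner_of_out CfsgLib.KnownA.Mathieu.out_M23)
    · rw [ho, hs, Subgroup.card_top, card_S23] at hcard
      have hTeq : T = ⊤ := Subgroup.eq_top_of_card_eq _ (by rw [card_M24]; omega)
      exact inner_of_equiv ((MulEquiv.subgroupCongr hTeq).trans Subgroup.topEquiv)
        (inner_of_out CfsgLib.KnownA.Mathieu.out_M24)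

end CfsgLib.J4Type.TwentyThree
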