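import Cfsg.Agent.Lib.J4Type.TwentyThree.Pgl
import Cfsg.Agent.Lib.J4Type.TwentyThree.Perms
import Cfsg.Agent.Lib.J4Type.NV.Split
import Cfsg.Agent.Lib.Amalgam.TIInvertedCases

/-!
`PGL(2,23)` inside a group of Janko-four type: an involution inverting an element of order `23` of a
complement `M24` moves the normaliser of the subgroup of order `2 ^ 11` to a second one, and the
intersection of the two is `PSL(2,23)`.
-/

set_option autoImplicit false
set_option linter.style.haveILetI false
set_option linter.unusedSectionVars false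
set_option maxRecDepth 100000

namespace CfsgLib.J4Type.TwentyThree

open Cfsg Subgroup

variable {G : Type*} [Group G] [Finite G]

theorem coprime_eq_one {g : G} {m n : ℕ} (h1 : g ^ m = 1) (h2 : g ^ n = 1) (h : Nat.Coprime m n) :
    g = 1 := by
  rw [← orderOf_eq_one_iff]
  exact Nat.eq_one_of_dvd_coprimes h (orderOf_dvd_iff_pow_eq_one.2 h1) (orderOf_dvd_iff_pow_eq_one.2 h2)

theorem elem_of_sq {A : Subgroup G} (h : ∀ a ∈ A, a ^ 2 = 1) : IsElementaryAbelian 2 A := by
  refine ⟨⟨⟨fun a a' => Subtype.ext ?_⟩⟩, h⟩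
  have hi : ∀ g ∈ A, g⁻¹ = g := fun g hg => inv_eq_of_mul_eq_one_left (by rw [← pow_two]; exact h g hg)
  show (a : G) * a' = a' * a
  calc (a : G) * a' = ((a : G) * a')⁻¹ := (hi _ (mul_mem a.2 a'.2)).symm
    _ = a' * a := by rw [mul_inv_rev, hi _ a.2, hi _ a'.2]

/-- The facts about the normaliser of the subgroup of order `2 ^ 11` that are used. -/
structure Input (N V : Subgroup G) where
  norm : N = normalizer (V : Set G)
  sq : ∀ v ∈ V, v ^ 2 = 1
  cardV : Nat.card V = 2 ^ 11
  cardN : Nat.card N = 2 ^ 11 * 244823040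
  unique : ∀ (T : Sylow 2 G) (A B : Subgroup G), A ≤ (T : Subgroup G) → B ≤ (T : Subgroup G) →
    IsElementaryAbelian 2 A → Nat.card A = 2 ^ 11 → IsElementaryAbelian 2 B →
    Nat.card B = 2 ^ 11 → A = B
  elem : IsElementaryAbelian 2 V
  φ : N →* M24
  ker : φ.ker = V.subgroupOf N
  K : Subgroup G
  K_le : K ≤ N
  K_inf : K ⊓ V = ⊥
  lift : ∀ σ : M24, ∃ k : N, (k : G) ∈ K ∧ φ k = σ

theorem Input.exists_pgl {N V : Subgroup G} (I : Input N V)
    (hG : Nat.card G = 86775571046077562880)
    (hU : ∀ b : G, orderOf b = 23 → centralizer ({b} : Set G) = zpowers b ∧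
      Nat.card (normalizer (zpowers b : Set G)) = 506) :
    ∃ H : Subgroup G, Nonempty (H ≃* (GL (Fin 2) (ZMod 23) ⧸ center (GL (Fin 2) (ZMod 23)))) := by
  classical
  haveI : Fact (Nat.Prime 23) := ⟨by norm_num⟩
  haveI : Fact (Nat.Prime 2) := ⟨Nat.prime_two⟩
  have hinj : ∀ k : N, (k : G) ∈ I.K → I.φ k = 1 → k = 1 := by
    intro k hk h1
    have h2 : (k : G) ∈ V := by
      have : k ∈ I.φ.ker := h1
      rwa [I.ker] at this
    have h3 : (k : G) ∈ I.K ⊓ V := ⟨hk, h2⟩
    rw [I.K_inf, mem_bot] at h3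
    exact Subtype.ext h3
  obtain ⟨kb, hkb, eb⟩ := I.lift shiftM
  obtain ⟨ku, hku, eu⟩ := I.lift twoM
  set b : G := (kb : G) with hbdef
  set u : G := (ku : G) with hudef
  have hb23 : b ^ 23 = 1 := by
    have := hinj (kb ^ 23) (I.K.pow_mem hkb 23)
      (by rw [map_pow, eb, ← shiftM_order, pow_orderOf_eq_one])
    exact congrArg Subtype.val this
  have hb1 : b ≠ 1 := by
    intro h
    have h1 : kb = 1 := Subtype.ext h
    rw [h1, map_one] at eb
    have := shiftM_order
    rw [← eb, orderOf_one] at this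
    norm_num at this
  have hb : orderOf b = 23 := orderOf_eq_prime hb23 hb1
  have hu11 : u ^ 11 = 1 := congrArg Subtype.val
    (hinj (ku ^ 11) (I.K.pow_mem hku 11) (by rw [map_pow, eu, twoM_pow]))
  have hu1 : u ≠ 1 := by
    intro h
    have h1 : ku = 1 := Subtype.ext h
    rw [h1, map_one] at eu
    exact twoM_ne eu.symm
  have hub : u * b * u⁻¹ = b ^ 2 := by
    have := hinj (ku * kb * ku⁻¹ * (kb ^ 2)⁻¹)
      (mul_mem (mul_mem (mul_mem hku hkb) (inv_mem hku)) (inv_mem (I.K.pow_mem hkb 2)))
      (by simp only [map_mul, map_inv, map_pow, eu, eb, twoM_shiftM, mul_inv_cancel])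
    have h2 := congrArg Subtype.val this
    push_cast at h2
    exact mul_inv_eq_one.1 h2
  obtain ⟨hC, hNU⟩ := hU b hb
  set U := normalizer (zpowers b : Set G) with hUdef
  have hbU : b ∈ U := le_normalizer (mem_zpowers b)
  have huU : u ∈ U := by
    rw [hUdef, mem_normalizer_iff]
    have hmap : (zpowers b).map (MulAut.conj u).toMonoidHom = zpowers b := by
      refine eq_of_le_of_card_ge ?_ (le_of_eq ?_)
      · rw [MonoidHom.map_zpowers, zpowers_le]
        show u * b * u⁻¹ ∈ zpowers b
        rw [hub]; exact pow_mem (mem_zpowers b) 2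
      · exact Nat.card_congr
          ((zpowers b).equivMapOfInjective _ (MulAut.conj u).injective).toEquiv
    intro x
    constructor
    · intro hx
      rw [← hmap]
      exact ⟨x, hx, rfl⟩
    · intro hx
      rw [← hmap] at hx
      obtain ⟨w, hw, e⟩ := hx
      have : w = x := mul_left_cancel (mul_right_cancel e)
      exact this ▸ hw
  have ho11 : orderOf u = 11 := by
    haveI : Fact (Nat.Prime 11) := ⟨by norm_num⟩
    exact orderOf_eq_prime hu11 hu1
  have h253 : ∀ H : Subgroup G, b ∈ H → u ∈ H → 253 ∣ Nat.card H := by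
    intro H hbH huH
    have e1 := card_dvd_of_le (zpowers_le.2 hbH)
    have e2 := card_dvd_of_le (zpowers_le.2 huH)
    rw [Nat.card_zpowers, hb] at e1
    rw [Nat.card_zpowers, ho11] at e2
    exact Nat.Coprime.mul_dvd_of_dvd_of_dvd (by norm_num : Nat.Coprime 23 11) e1 e2
  -- an involution inverting `b`
  obtain ⟨y', hy'⟩ := exists_prime_orderOf_dvd_card' (G := U) 2 (by rw [hNU]; norm_num)
  set y : G := (y' : G) with hydef
  have hyU : y ∈ U := y'.2
  have hy : orderOf y = 2 := by rw [hydef, Subgroup.orderOf_coe, hy']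
  have hy2 : y * y = 1 := by rw [← pow_two, ← hy]; exact pow_orderOf_eq_one y
  have hyi : y⁻¹ = y := inv_eq_of_mul_eq_one_left hy2
  have hyy : ∀ x : G, y * (y * x) = x := fun x => by rw [← mul_assoc, hy2, one_mul]
  have hyb : y * b * y⁻¹ = b⁻¹ := by
    obtain ⟨i, hi⟩ := conj_pow_of_mem_normalizer hb hyU
    have h2 := conj_iterate hi 2
    rw [pow_two y, hy2, one_mul, inv_one, mul_one] at h2
    have h3 : (1 : ℕ) ≡ i ^ 2 [MOD 23] := by
      rw [← hb]; exact pow_eq_pow_iff_modEq.1 (by rw [pow_one]; exact h2)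
    have h4 : ((i : ZMod 23)) ^ 2 = 1 := by
      have := (ZMod.natCast_eq_natCast_iff _ _ _).2 h3
      rw [Nat.cast_pow, Nat.cast_one] at this
      exact this.symm
    rcases sq_eq_one_iff.1 h4 with h5 | h5
    · exfalso
      have h6 : b ^ i = b := by
        conv_rhs => rw [← pow_one b]
        rw [pow_eq_pow_iff_modEq, hb, ← ZMod.natCast_eq_natCast_iff, Nat.cast_one]
        exact h5
      have hyC : y ∈ zpowers b := by
        rw [← hC, mem_centralizer_singleton_iff, ← mul_inv_eq_iff_eq_mul, hi, h6]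
      have := card_dvd_of_le (zpowers_le.2 hyC)
      rw [Nat.card_zpowers, Nat.card_zpowers, hy, hb] at this
      norm_num at this
    · have h6 : b ^ i = b ^ 22 := by
        rw [pow_eq_pow_iff_modEq, hb, ← ZMod.natCast_eq_natCast_iff, h5]
        rfl
      rw [hi, h6]
      exact eq_inv_of_mul_eq_one_left (by rw [← pow_succ, hb23])
  have hyN : y ∉ N := by
    intro h
    refine no_invert (I.φ ⟨y, h⟩) ?_
    have e : (⟨y, h⟩ * kb * ⟨y, h⟩⁻¹ : N) = kb⁻¹ := Subtype.ext hyb
    have := congrArg I.φ e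
    simp only [map_mul, map_inv, eb] at this
    exact this
  -- the intersection of `N` with its conjugate
  set c := (MulAut.conj y).toMonoidHom with hcdef
  have hcinj : Function.Injective c := (MulAut.conj y).injective
  set N1 := N.map c with hN1
  have hmem1 : ∀ x, x ∈ N1 ↔ y * x * y ∈ N := by
    intro x
    constructor
    · rintro ⟨w, hw, rfl⟩
      have e : y * (y * w * y⁻¹) * y = w := by rw [hyi]; simp only [mul_assoc, hyy, hy2, mul_one]
      show y * (y * w * y⁻¹) * y ∈ N
      rw [e]; exact hw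
    · intro h
      refine ⟨y * x * y, h, ?_⟩
      show y * (y * x * y) * y⁻¹ = x
      rw [hyi]; simp only [mul_assoc, hyy, hy2, mul_one]
  set S0 := N ⊓ N1 with hS0
  have hbN : b ∈ N := kb.2
  have huN : u ∈ N := ku.2
  have hbS : b ∈ S0 := by
    refine ⟨hbN, (hmem1 b).2 ?_⟩
    have : y * b * y = b⁻¹ := by rw [← hyb, hyi]
    rw [this]; exact inv_mem hbN
  -- `y` normalises `23:11`
  set B := U ⊓ N with hB
  have hBdvd : 253 ∣ Nat.card B := h253 B ⟨hbU, hbN⟩ ⟨huU, huN⟩
  have hBle : Nat.card B ∣ 506 := by rw [← hNU]; exact card_dvd_of_le inf_le_left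
  have hB506 : Nat.card B ≠ 506 := by
    intro h
    have : B = U := eq_of_le_of_card_ge inf_le_left (by rw [hNU, h])
    have hy0 : y ∈ B := this.symm ▸ hyU
    exact hyN hy0.2
  have hB253 : Nat.card B = 253 := by
    obtain ⟨d, hd⟩ := hBdvd
    have h1 : Nat.card B ≤ 506 := Nat.le_of_dvd (by norm_num) hBle
    have h2 := Nat.card_pos (α := B)
    omega
  have hidx : (B.subgroupOf U).index = 2 := by
    have h := (B.subgroupOf U).card_mul_index
    rw [Nat.card_congr (subgroupOfEquivOfLe (inf_le_left : B ≤ U)).toEquiv, hB253, hNU] at h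
    omega
  have hBn : (B.subgroupOf U).Normal := normal_of_index_eq_two hidx
  have huS : u ∈ S0 := by
    refine ⟨huN, (hmem1 u).2 ?_⟩
    have h := hBn.conj_mem ⟨u, huU⟩ (show (⟨u, huU⟩ : U) ∈ B.subgroupOf U from ⟨huU, huN⟩) ⟨y, hyU⟩
    have h' : y * u * y⁻¹ ∈ N := h.2
    rwa [hyi] at h'
  have hyS : ∀ x ∈ S0, y * x * y ∈ S0 := by
    intro x hx
    refine ⟨(hmem1 x).1 hx.2, (hmem1 _).2 ?_⟩
    simp only [mul_assoc, hy2, hyy, mul_one]
    exact hx.1
  have hN1card : Nat.card N1 = Nat.card N :=
    (Nat.card_congr (N.equivMapOfInjective c hcinj).toEquiv).symm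
  have hbound : 2 ^ 11 * 244823040 ≤ Nat.card S0 * 173067389 := by
    have e : S0.relIndex N = N1.relIndex N := by rw [hS0, inf_relIndex_left]
    have h1 : Nat.card S0 * S0.relIndex N = Nat.card N := by
      have := (S0.subgroupOf N).card_mul_index
      rwa [Nat.card_congr (subgroupOfEquivOfLe (inf_le_left : S0 ≤ N)).toEquiv] at this
    have h2 : N1.relIndex N ≤ N1.index := by
      rw [← relIndex_top_right]
      exact relIndex_le_of_le_right le_top (by rw [relIndex_top_right]; exact index_ne_zero_of_finite)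
    have h3 := N1.card_mul_index
    rw [hN1card, I.cardN, hG] at h3
    have h4 : N1.index = 173067389 := by omega
    rw [e, I.cardN] at h1
    calc 2 ^ 11 * 244823040 = Nat.card S0 * N1.relIndex N := h1.symm
      _ ≤ Nat.card S0 * 173067389 := Nat.mul_le_mul_left _ (h4 ▸ h2)
  -- no nontrivial element of `V` is in the intersection
  set W := V ⊓ N1 with hW
  have hVnorm : ∀ g ∈ N, ∀ v ∈ V, g * v * g⁻¹ ∈ V := fun g hg v hv =>
    (mem_normalizer_iff.1 (show g ∈ normalizer (V : Set G) from I.norm ▸ hg) v).1 hv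
  have hWbot : W = ⊥ := by
    have hdvd : 23 ∣ Nat.card W - 1 := by
      have := CfsgLib.Amalgam.TIInverted.free_dvd (A := zpowers b) (B := W)
        (fun a ha w hw => by
          have haS : a ∈ S0 := (zpowers_le.2 hbS) ha
          exact ⟨hVnorm a haS.1 w hw.1, N1.mul_mem (N1.mul_mem haS.2 hw.2) (N1.inv_mem haS.2)⟩)
        (fun a ha w hw hw1 e => by
          by_contra ha1
          obtain ⟨n, rfl⟩ := ha
          have ha23 : (b ^ n) ^ 23 = 1 := by
            rw [← zpow_natCast, ← zpow_mul, mul_comm, zpow_mul, zpow_natCast, hb23, one_zpow]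
          obtain ⟨hCa, -⟩ := hU _ (orderOf_eq_prime ha23 ha1)
          have hwC : w ∈ zpowers (b ^ n) := hCa ▸ mem_centralizer_singleton_iff.2 e.symm
          obtain ⟨m, rfl⟩ := hwC
          exact hw1 (coprime_eq_one (m := 2) (n := 23) (I.sq _ hw.1) (by
            show ((b ^ n) ^ m) ^ 23 = 1
            rw [← zpow_natCast, ← zpow_mul, mul_comm, zpow_mul, zpow_natCast, ha23, one_zpow])
            (by norm_num)))
      rwa [Nat.card_zpowers, hb] at this
    obtain ⟨k, hk, hk'⟩ := (Nat.dvd_prime_pow Nat.prime_two).1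
      (I.cardV ▸ card_dvd_of_le (inf_le_left : W ≤ V))
    rw [hk'] at hdvd
    have hk11 : k = 0 ∨ k = 11 := by
      revert hdvd
      interval_cases k <;> norm_num
    rcases hk11 with rfl | rfl
    · exact eq_bot_of_card_eq W (by rw [hk', pow_zero])
    · exfalso
      have hVN1 : V ≤ N1 := by
        have : W = V := eq_of_le_of_card_ge inf_le_left (by rw [hk', I.cardV])
        exact this ▸ inf_le_right
      set V1 := V.map c with hV1
      have hV1card : Nat.card V1 = 2 ^ 11 := by
        rw [← I.cardV]; exact (Nat.card_congr (V.equivMapOfInjective c hcinj).toEquiv).symm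
      have hV1sq : ∀ v ∈ V1, v ^ 2 = 1 := by
        rintro v ⟨w, hw, rfl⟩
        rw [← map_pow, I.sq w hw, map_one]
      have hN1V1 : N1 ≤ normalizer (V1 : Set G) := by
        rw [hN1, I.norm, hV1]
        exact (map_equiv_normalizer_eq V (MulAut.conj y)).le
      have hp : IsPGroup 2 V := IsPGroup.of_card I.cardV
      have hp1 : IsPGroup 2 V1 := IsPGroup.of_card hV1card
      obtain ⟨T, hT⟩ := (hp.to_sup_of_normal_right' hp1 (hVN1.trans hN1V1)).exists_le_sylow
      have hEq : V = V1 := I.unique T V V1 (le_sup_left.trans hT) (le_sup_right.trans hT) I.elem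
        I.cardV (CfsgLib.J4Type.TwentyThree.elem_of_sq hV1sq) hV1card
      have hyNV : y ∈ normalizer (V : Set G) := by
        rw [mem_normalizer_iff]
        intro x
        constructor
        · intro hx
          rw [hEq]; exact ⟨x, hx, rfl⟩
        · intro hx
          rw [hEq] at hx
          obtain ⟨w, hw, e⟩ := hx
          have : w = x := mul_left_cancel (mul_right_cancel e)
          exact this ▸ hw
      exact hyN (I.norm ▸ hyNV)
  let π : S0 →* M24 := I.φ.comp (inclusion inf_le_left)
  have hπ : Function.Injective π := by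
    rw [injective_iff_map_eq_one]
    intro x hx
    have h1 : inclusion (inf_le_left : S0 ≤ N) x ∈ I.φ.ker := hx
    rw [I.ker] at h1
    have h2 : (x : G) ∈ W := ⟨h1, x.2.2⟩
    rw [hWbot, mem_bot] at h2
    exact Subtype.ext h2
  have hbM : shiftM ∈ π.range := ⟨⟨b, hbS⟩, eb⟩
  have huM : twoM ∈ π.range := ⟨⟨u, huS⟩, eu⟩
  have hcardT : Nat.card π.range = Nat.card S0 :=
    (Nat.card_congr (MonoidHom.ofInjective hπ).toEquiv).symm
  have hS6072 : Nat.card S0 = 6072 := by
    rcases overgroup π.range hbM huM with h | h | h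
    · rw [hcardT] at h; rw [h] at hbound; norm_num at hbound
    · rw [← hcardT]; exact h
    · exfalso
      let θ : MulAut S0 :=
        { toFun := fun x => ⟨y * x * y, hyS x x.2⟩
          invFun := fun x => ⟨y * x * y, hyS x x.2⟩
          left_inv := fun x => Subtype.ext (by simp only [mul_assoc, hy2, hyy, mul_one])
          right_inv := fun x => Subtype.ext (by simp only [mul_assoc, hy2, hyy, mul_one])
          map_mul' := fun x x' => Subtype.ext (by
            show y * ((x : G) * x') * y = y * x * y * (y * x' * y)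
            simp only [mul_assoc, hyy]) }
      obtain ⟨s, hs⟩ := inner_of_equiv (MonoidHom.ofInjective hπ) h θ
      refine no_invert (π s) ?_
      have h2 := DFunLike.congr_fun hs ⟨b, hbS⟩
      rw [MulAut.conj_apply] at h2
      have h3 : s * ⟨b, hbS⟩ * s⁻¹ = (⟨b, hbS⟩ : S0)⁻¹ := by
        rw [← h2]
        refine Subtype.ext ?_
        show y * b * y = b⁻¹
        rw [← hyb, hyi]
      have h4 := congrArg π h3
      rw [map_mul, map_mul, map_inv, map_inv, show π ⟨b, hbS⟩ = shiftM from eb] at h4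
      exact h4
  -- the group generated
  let P : Subgroup G :=
    { carrier := {g | g ∈ S0 ∨ g * y ∈ S0}
      one_mem' := Or.inl (one_mem _)
      mul_mem' := fun {g h} hg hh => by
        rcases hg with hg | hg <;> rcases hh with hh | hh
        · exact Or.inl (mul_mem hg hh)
        · exact Or.inr (by rw [mul_assoc]; exact mul_mem hg hh)
        · refine Or.inr ?_
          have e : g * h * y = (g * y) * (y * h * y) := by simp only [mul_assoc, hyy]
          rw [e]; exact mul_mem hg (hyS h hh)
        · refine Or.inl ?_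
          have e : g * h = (g * y) * (y * (h * y) * y) := by simp only [mul_assoc, hyy, hy2, mul_one]
          rw [e]; exact mul_mem hg (hyS _ hh)
      inv_mem' := fun {g} hg => by
        rcases hg with hg | hg
        · exact Or.inl (inv_mem hg)
        · refine Or.inr ?_
          have e : g⁻¹ * y = y * (g * y)⁻¹ * y := by rw [mul_inv_rev, hyi, ← mul_assoc, hy2, one_mul]
          rw [e]; exact hyS _ (inv_mem hg) }
  have hSP : S0 ≤ P := fun g hg => Or.inl hg
  have hyP : y ∈ P := Or.inr (by rw [hy2]; exact one_mem _)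
  have hPcard : Nat.card P = 12144 := by
    have hidxP : (S0.subgroupOf P).index = 2 := by
      rw [index_eq_two_iff]
      refine ⟨⟨y, hyP⟩, fun g => ?_⟩
      have hne : ¬ ((g : G) * y ∈ S0 ∧ (g : G) ∈ S0) := fun ⟨h1, h2⟩ => hyN (by
        have h3 : (g : G)⁻¹ * ((g : G) * y) ∈ S0 := mul_mem (inv_mem h2) h1
        rw [inv_mul_cancel_left] at h3
        exact h3.1)
      rcases g.2 with hg | hg
      · exact Or.inr ⟨hg, fun h => hne ⟨h, hg⟩⟩
      · exact Or.inl ⟨hg, fun h => hne ⟨hg, h⟩⟩
    have := (S0.subgroupOf P).card_mul_index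
    rw [Nat.card_congr (subgroupOfEquivOfLe hSP).toEquiv, hidxP, hS6072] at this
    omega
  have hUP : U ≤ P := by
    have hle : 506 ≤ Nat.card ↥(U ⊓ P) := by
      have h1 : 253 ∣ Nat.card ↥(U ⊓ P) := h253 _ ⟨hbU, hSP hbS⟩ ⟨huU, hSP huS⟩
      have h2 : 2 ∣ Nat.card ↥(U ⊓ P) := by
        have := card_dvd_of_le (zpowers_le.2 (show y ∈ U ⊓ P from ⟨hyU, hyP⟩))
        rwa [Nat.card_zpowers, hy] at this
      exact Nat.le_of_dvd Nat.card_pos
        (Nat.Coprime.mul_dvd_of_dvd_of_dvd (by norm_num : Nat.Coprime 253 2) h1 h2)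
    exact eq_of_le_of_card_ge (inf_le_left : U ⊓ P ≤ U) (by rw [hNU]; exact hle) ▸ inf_le_right
  let bP : P := ⟨b, hSP hbS⟩
  have hzp : ∀ x : P, x ∈ zpowers bP ↔ (x : G) ∈ zpowers b := by
    intro x
    simp only [mem_zpowers_iff, bP, Subtype.ext_iff, SubgroupClass.coe_zpow]
  refine ⟨P, pgl_of_normalizer (b := bP) ?_ ?_ ?_ hPcard⟩
  · rw [← hb]; exact (orderOf_mk _ _)
  · ext x
    rw [hzp, ← hC, mem_centralizer_singleton_iff, mem_centralizer_singleton_iff, Subtype.ext_iff]
    rfl
  · have e : normalizer (zpowers bP : Set P) = U.subgroupOf P := by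
      ext x
      rw [mem_subgroupOf, hUdef, mem_normalizer_iff, mem_normalizer_iff]
      constructor
      · intro h w
        constructor
        · intro hw
          have := (h ⟨w, (zpowers_le.2 (hSP hbS)) hw⟩).1 ((hzp _).2 hw)
          exact (hzp _).1 this
        · intro hw
          have hwP : w ∈ P := by
            have h' := mul_mem (mul_mem (inv_mem x.2) ((zpowers_le.2 (hSP hbS)) hw)) x.2
            have e' : (x : G)⁻¹ * ((x : G) * w * (x : G)⁻¹) * x = w := by group
            rwa [e'] at h'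
          exact (hzp ⟨w, hwP⟩).1 ((h ⟨w, hwP⟩).2 ((hzp _).2 hw))
      · intro h w
        rw [hzp, hzp]
        exact h (w : G)
    rw [e, Nat.card_congr (subgroupOfEquivOfLe hUP).toEquiv, hNU]

end CfsgLib.J4Type.TwentyThree
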