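import Cfsg.Agent.Lib.Perm.SharplyThree
import Mathlib.GroupTheory.GroupAction.Quotient

/-!
A group of order `24 * 23 * 22` with a self-centralising subgroup of order `23` whose normaliser has
order `506` is `PGL(2,23)`.
-/

set_option autoImplicit false
set_option linter.style.haveILetI false
set_option linter.unusedSectionVars false
set_option linter.unusedVariables false

namespace CfsgLib.J4Type.TwentyThree

open Subgroup

section

variable {R S : Type} [CommRing R] [CommRing S]

theorem center_map_ringEquiv (e : R ≃+* S) :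
    (Subgroup.center (GL (Fin 2) R)).map (Units.mapEquiv e.mapMatrix.toMulEquiv).toMonoidHom =
      Subgroup.center (GL (Fin 2) S) := by
  set f := Units.mapEquiv (e.mapMatrix (m := Fin 2)).toMulEquiv
  ext x
  rw [Subgroup.mem_map_equiv, Subgroup.mem_center_iff, Subgroup.mem_center_iff]
  constructor
  · intro h y
    have := congrArg f (h (f.symm y))
    simpa using this
  · intro h y
    refine f.injective ?_
    simpa using h (f y)

/-- A ring isomorphism induces an isomorphism of projective linear groups. -/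
noncomputable def pglCongr (e : R ≃+* S) :
    (GL (Fin 2) R ⧸ Subgroup.center (GL (Fin 2) R)) ≃*
      (GL (Fin 2) S ⧸ Subgroup.center (GL (Fin 2) S)) :=
  QuotientGroup.congr _ _ (Units.mapEquiv e.mapMatrix.toMulEquiv) (center_map_ringEquiv e)

end

variable {P : Type*} [Group P] [Finite P] {b : P}

theorem conj_pow_of_mem_normalizer (hb : orderOf b = 23) {g : P}
    (hg : g ∈ normalizer (zpowers b : Set P)) : ∃ i : ℕ, g * b * g⁻¹ = b ^ i := by
  have h := (mem_normalizer_iff.1 hg b).1 (mem_zpowers b)
  have hf : IsOfFinOrder b := isOfFinOrder_of_finite b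
  rw [← hf.mem_powers_iff_mem_zpowers, Submonoid.mem_powers_iff] at h
  obtain ⟨i, hi⟩ := h
  exact ⟨i, hi.symm⟩

theorem conj_iterate {g : P} {i : ℕ} (h : g * b * g⁻¹ = b ^ i) :
    ∀ n : ℕ, g ^ n * b * (g ^ n)⁻¹ = b ^ (i ^ n) := by
  intro n
  induction n with
  | zero => simp
  | succ n ih =>
    calc g ^ (n + 1) * b * (g ^ (n + 1))⁻¹ = g * (g ^ n * b * (g ^ n)⁻¹) * g⁻¹ := by
          rw [pow_succ']; group
      _ = (g * b * g⁻¹) ^ (i ^ n) := by rw [ih, conj_pow]
      _ = b ^ (i ^ (n + 1)) := by rw [h, ← pow_mul, pow_succ']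

/-- An element of the normaliser with trivial twenty-third power lies in the subgroup. -/
theorem mem_of_pow_eq_one (hb : orderOf b = 23)
    (hcent : centralizer ({b} : Set P) = zpowers b) {g : P}
    (hg : g ∈ normalizer (zpowers b : Set P)) (hg23 : g ^ 23 = 1) : g ∈ zpowers b := by
  obtain ⟨i, hi⟩ := conj_pow_of_mem_normalizer hb hg
  have h := conj_iterate hi 23
  rw [hg23, one_mul, inv_one, mul_one] at h
  have h1 : (1 : ℕ) ≡ i ^ 23 [MOD 23] := by
    rw [← hb]
    exact pow_eq_pow_iff_modEq.1 (by rw [pow_one, hb]; exact h)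
  have h2 : (i : ZMod 23) = 1 := by
    have := (ZMod.natCast_eq_natCast_iff _ _ _).2 h1
    haveI hp23 : Fact (Nat.Prime 23) := ⟨by norm_num⟩
    rw [Nat.cast_pow, Nat.cast_one, ZMod.pow_card] at this
    exact this.symm
  have h3 : b ^ i = b := by
    conv_rhs => rw [← pow_one b]
    rw [pow_eq_pow_iff_modEq, hb, ← ZMod.natCast_eq_natCast_iff, Nat.cast_one]
    exact h2
  rw [← hcent, mem_centralizer_singleton_iff, ← mul_inv_eq_iff_eq_mul, hi, h3]

/-- `PGL(2,23)` from its normaliser of order `506`. -/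
theorem pgl_of_normalizer (hb : orderOf b = 23) (hcent : centralizer ({b} : Set P) = zpowers b)
    (hnorm : Nat.card (normalizer (zpowers b : Set P)) = 506) (hcard : Nat.card P = 12144) :
    Nonempty (P ≃* (GL (Fin 2) (ZMod 23) ⧸ Subgroup.center (GL (Fin 2) (ZMod 23)))) := by
  classical
  haveI : Fact (Nat.Prime 23) := ⟨by norm_num⟩
  set M : Subgroup P := normalizer (zpowers b : Set P) with hM
  letI : Fintype (P ⧸ M) := Fintype.ofFinite _
  have hX : Nat.card (P ⧸ M) = 24 := by
    have := M.card_eq_card_quotient_mul_card_subgroup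
    rw [hcard, hnorm] at this
    omega
  let o : P ⧸ M := ((1 : P) : P ⧸ M)
  have hstab : ∀ g : P, g • o = o ↔ g ∈ M := by
    intro g
    show ((g * 1 : P) : P ⧸ M) = ((1 : P) : P ⧸ M) ↔ g ∈ M
    rw [mul_one, QuotientGroup.eq, mul_one, inv_mem_iff]
  have hb23 : b ^ 23 = 1 := by rw [← hb]; exact pow_orderOf_eq_one b
  have hbM : ∀ u ∈ zpowers b, u ∈ M := fun u hu => le_normalizer hu
  -- the subgroup fixes only the base point
  have hfix : ∀ u ∈ zpowers b, u ≠ 1 → ∀ x : P ⧸ M, u • x = x → x = o := by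
    intro u hu hu1 x hx
    induction x using QuotientGroup.induction_on with
    | _ k =>
      have h1 : k⁻¹ * u * k ∈ M := by
        have hk : ((u * k : P) : P ⧸ M) = (k : P ⧸ M) := hx
        have := QuotientGroup.eq.1 hk.symm
        rwa [← mul_assoc] at this
      have hu23 : u ^ 23 = 1 := by
        obtain ⟨n, rfl⟩ := hu
        show (b ^ n) ^ 23 = 1
        rw [← zpow_natCast, ← zpow_mul, mul_comm, zpow_mul, zpow_natCast, hb23, one_zpow]
      have h2 : k⁻¹ * u * k ∈ zpowers b := mem_of_pow_eq_one hb hcent h1 (by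
        have := conj_pow (a := k⁻¹) (b := u) (i := 23)
        rw [inv_inv] at this
        rw [this, hu23, mul_one, inv_mul_cancel])
      have hord : orderOf u = 23 := orderOf_eq_prime hu23 hu1
      have hgen : zpowers u = zpowers b :=
        eq_of_le_of_card_ge (zpowers_le.2 hu) (by rw [Nat.card_zpowers, Nat.card_zpowers, hord, hb])
      have hk : k ∈ M := by
        rw [← hM] at *
        have hkinv : k⁻¹ ∈ M := by
          rw [hM, mem_normalizer_iff]
          have hmap : (zpowers b).map (MulAut.conj k⁻¹).toMonoidHom = zpowers b := by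
            refine eq_of_le_of_card_ge ?_ (le_of_eq ?_)
            · rw [← hgen, MonoidHom.map_zpowers, zpowers_le]
              show k⁻¹ * u * k⁻¹⁻¹ ∈ zpowers u
              rw [inv_inv, hgen]; exact h2
            · exact (Nat.card_congr
                ((zpowers b).equivMapOfInjective _ (MulAut.conj k⁻¹).injective).toEquiv)
          intro x
          constructor
          · intro hx
            rw [← hmap]
            exact ⟨x, hx, rfl⟩
          · intro hx
            rw [← hmap] at hx
            obtain ⟨y, hy, e⟩ := hx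
            have : y = x := mul_left_cancel (mul_right_cancel e)
            exact this ▸ hy
        exact inv_inv k ▸ inv_mem hkinv
      rw [QuotientGroup.eq, mul_one]
      exact inv_mem hk
  have hmove : ∀ u ∈ zpowers b, ∀ x : P ⧸ M, x ≠ o → u • x = x → u = 1 := fun u hu x hx e =>
    by_contra fun hu1 => hx (hfix u hu hu1 x e)
  -- the subgroup is transitive on the other points
  have hreg : ∀ x y : P ⧸ M, x ≠ o → y ≠ o → ∃ u ∈ zpowers b, u • x = y := by
    intro x y hx hy
    let f : zpowers b → {v : P ⧸ M // v ≠ o} := fun u =>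
      ⟨(u : P) • x, fun e => hx (by
        rw [← (hstab (u : P)).2 (hbM _ u.2)] at e
        exact MulAction.injective (u : P) e)⟩
    have hinj : Function.Injective f := by
      intro u v e
      have e' : (u : P) • x = (v : P) • x := congrArg Subtype.val e
      have := hmove _ (mul_mem (inv_mem v.2) u.2) x hx (by rw [mul_smul, e', inv_smul_smul])
      exact Subtype.ext (inv_mul_eq_one.1 this).symm
    have hc : Nat.card (zpowers b) = Nat.card {v : P ⧸ M // v ≠ o} := by
      rw [Nat.card_zpowers, hb, Nat.card_eq_fintype_card, Fintype.card_subtype_compl,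
        Fintype.card_subtype_eq, ← Nat.card_eq_fintype_card, hX]
    obtain ⟨u, hu⟩ := ((Nat.bijective_iff_injective_and_card f).2 ⟨hinj, hc⟩).2 ⟨y, hy⟩
    exact ⟨u, u.2, congrArg Subtype.val hu⟩
  have hbase : ∀ g : P, g ∈ M → ∀ x y : P ⧸ M, x ≠ o → y ≠ o → x ≠ y → g • x = x → g • y = y →
      g = 1 := by
    intro g hg x y hx hy hxy gx gy
    obtain ⟨u, hu, rfl⟩ := hreg x y hx hy
    have hu' : g * u * g⁻¹ ∈ zpowers b := (mem_normalizer_iff.1 hg u).1 hu
    have e : (g * u * g⁻¹) • x = u • x := by
      rw [mul_smul, mul_smul, inv_smul_eq_iff.2 gx.symm, gy]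
    have h1 := hmove _ (mul_mem (inv_mem hu) hu') x hx (by rw [mul_smul, e, inv_smul_smul])
    have hu1 : u ≠ 1 := by rintro rfl; exact hxy (one_smul _ _).symm
    have hgen : zpowers u = zpowers b := by
      refine eq_of_le_of_card_ge (zpowers_le.2 hu) ?_
      rw [Nat.card_zpowers, Nat.card_zpowers, hb]
      have hd := orderOf_dvd_natCard (⟨u, hu⟩ : zpowers b)
      rw [Subgroup.orderOf_mk, Nat.card_zpowers, hb] at hd
      rcases (Nat.dvd_prime (by norm_num)).1 hd with e' | e'
      · exact absurd (orderOf_eq_one_iff.1 e') hu1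
      · omega
    have hgC : g ∈ centralizer ({u} : Set P) := by
      rw [mem_centralizer_singleton_iff, ← mul_inv_eq_iff_eq_mul]
      exact (inv_mul_eq_one.1 h1).symm
    have hgU : g ∈ zpowers b := by
      rw [← hcent, mem_centralizer_singleton_iff]
      have hbu : b ∈ zpowers u := hgen ▸ mem_zpowers b
      obtain ⟨n, hn⟩ := hbu
      rw [← hn]
      exact ((show Commute g u from mem_centralizer_singleton_iff.1 hgC).zpow_right n).eq
    exact hmove g hgU x hx gx
  have hconjfix : ∀ (k g : P) (x : P ⧸ M), g • x = x → (k * g * k⁻¹) • (k • x) = k • x :=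
    fun k g x e => by rw [mul_smul, mul_smul, inv_smul_smul, e]
  have hsharp : ∀ x : Fin 3 ↪ P ⧸ M, MulAction.stabilizer P x = ⊥ := by
    intro x
    rw [Subgroup.eq_bot_iff_forall]
    intro g hg
    have hgx : ∀ i, g • x i = x i := fun i => congrArg (fun e : Fin 3 ↪ _ => e i) hg
    obtain ⟨k, hk⟩ := MulAction.exists_smul_eq P (x 0) o
    have hne : ∀ i j : Fin 3, i ≠ j → k • x i ≠ k • x j := fun i j hij e =>
      hij (x.injective (MulAction.injective k e))
    have h0 : k * g * k⁻¹ ∈ M := (hstab _).1 (by rw [← hk]; exact hconjfix k g _ (hgx 0))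
    have := hbase _ h0 (k • x 1) (k • x 2) (by rw [← hk]; exact hne 1 0 (by decide))
      (by rw [← hk]; exact hne 2 0 (by decide)) (hne 1 2 (by decide))
      (hconjfix k g _ (hgx 1)) (hconjfix k g _ (hgx 2))
    exact conj_eq_one_iff.1 this
  let φ : P →* Equiv.Perm (P ⧸ M) := MulAction.toPermHom P _
  obtain ⟨x₀⟩ : Nonempty (Fin 3 ↪ P ⧸ M) := Function.Embedding.nonempty_of_card_le
    (by rw [Fintype.card_fin, ← Nat.card_eq_fintype_card, hX]; norm_num)
  have hφ : Function.Injective φ := by
    rw [injective_iff_map_eq_one]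
    intro g hg
    have hx : ∀ x : P ⧸ M, g • x = x := fun x => Equiv.congr_fun hg x
    have h1 : g ∈ MulAction.stabilizer P x₀ := by
      rw [MulAction.mem_stabilizer_iff]
      ext i
      exact hx _
    rwa [hsharp, Subgroup.mem_bot] at h1
  have h3 : MulAction.IsMultiplyPretransitive φ.range (P ⧸ M) 3 := by
    rw [MulAction.isMultiplyPretransitive_iff]
    intro x y
    let f : P → (Fin 3 ↪ P ⧸ M) := fun g => g • x
    have hinj : Function.Injective f := by
      intro g h e
      have : h⁻¹ * g ∈ MulAction.stabilizer P x := by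
        rw [MulAction.mem_stabilizer_iff, mul_smul]
        exact inv_smul_eq_iff.2 e
      rw [hsharp, Subgroup.mem_bot] at this
      exact (inv_mul_eq_one.1 this).symm
    have hc : Nat.card P = Nat.card (Fin 3 ↪ P ⧸ M) := by
      rw [hcard, Nat.card_eq_fintype_card, Fintype.card_embedding_eq, ← Nat.card_eq_fintype_card
        (α := P ⧸ M), hX, Fintype.card_fin]
      decide
    obtain ⟨g, hg⟩ := ((Nat.bijective_iff_injective_and_card f).2 ⟨hinj, hc⟩).2 y
    exact ⟨⟨φ g, g, rfl⟩, by rw [← hg]; rfl⟩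
  have hsharp' : ∀ x : Fin 3 ↪ P ⧸ M, MulAction.stabilizer φ.range x = ⊥ := by
    intro x
    rw [Subgroup.eq_bot_iff_forall]
    rintro ⟨_, g, rfl⟩ hg
    have h1 : g ∈ MulAction.stabilizer P x := hg
    rw [hsharp x, Subgroup.mem_bot] at h1
    exact Subtype.ext (by simp [h1])
  have hab : ∀ a c : P ⧸ M, a ≠ c → ∀ g g' : φ.range, g • a = a → g • c = c → g' • a = a →
      g' • c = c → g * g' = g' * g := by
    rintro a c hne ⟨_, g, rfl⟩ ⟨_, g', rfl⟩ ga gc g'a g'c
    replace ga : g • a = a := ga
    replace gc : g • c = c := gc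
    replace g'a : g' • a = a := g'a
    replace g'c : g' • c = c := g'c
    obtain ⟨k, hk⟩ := MulAction.exists_smul_eq P a o
    have hgM : ∀ {s : P}, s • a = a → k * s * k⁻¹ ∈ M := fun {s} e =>
      (hstab _).1 (by rw [← hk]; exact hconjfix k s _ e)
    obtain ⟨i, hi⟩ := conj_pow_of_mem_normalizer hb (hgM ga)
    obtain ⟨j, hj⟩ := conj_pow_of_mem_normalizer hb (hgM g'a)
    set A := k * g * k⁻¹ with hA
    set B := k * g' * k⁻¹ with hB
    have e1 : A * B * b * (A * B)⁻¹ = b ^ (i * j) := by
      calc A * B * b * (A * B)⁻¹ = A * (B * b * B⁻¹) * A⁻¹ := by group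
        _ = _ := by rw [hj, ← conj_pow, hi, ← pow_mul]
    have e2 : B * A * b * (B * A)⁻¹ = b ^ (i * j) := by
      calc B * A * b * (B * A)⁻¹ = B * (A * b * A⁻¹) * B⁻¹ := by group
        _ = _ := by rw [hi, ← conj_pow, hj, ← pow_mul, mul_comm]
    have hmem : (B * A)⁻¹ * (A * B) ∈ zpowers b := by
      rw [← hcent, mem_centralizer_singleton_iff, ← mul_inv_eq_iff_eq_mul]
      have e3 := e1.trans e2.symm
      calc (B * A)⁻¹ * (A * B) * b * ((B * A)⁻¹ * (A * B))⁻¹
          = (B * A)⁻¹ * (A * B * b * (A * B)⁻¹) * (B * A) := by group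
        _ = b := by rw [e3]; group
    have hAc : A • (k • c) = k • c := hconjfix k g _ gc
    have hBc : B • (k • c) = k • c := hconjfix k g' _ g'c
    have h1 := hmove _ hmem (k • c) (by rw [← hk]; exact fun e => hne (MulAction.injective k e).symm)
      (by rw [mul_smul, mul_smul, hBc, hAc, inv_smul_eq_iff, mul_smul, hAc, hBc])
    have h2 : k * (g * g') * k⁻¹ = k * (g' * g) * k⁻¹ := by
      rw [← conj_mul, ← conj_mul]
      exact (inv_mul_eq_one.1 h1).symm
    refine Subtype.ext ?_
    show φ g * φ g' = φ g' * φ g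
    rw [← map_mul, ← map_mul, mul_left_cancel (mul_right_cancel h2)]
  obtain ⟨F, iF, iFF, hF, ⟨e⟩⟩ := CfsgLib.Perm.sharply_three_pgl_of_abelian φ.range h3 hsharp' hab
    (by rw [← Nat.card_eq_fintype_card, hX]; norm_num)
  have hF23 : Fintype.card F = 23 := by
    rw [← Nat.card_eq_fintype_card, hX] at hF
    omega
  exact ⟨((MonoidHom.ofInjective hφ).trans e).trans
    (pglCongr (ZMod.ringEquivOfPrime F (by norm_num) hF23).symm)⟩

end CfsgLib.J4Type.TwentyThree
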